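import Cfsg.Agent.H40.AbelTwo.Split
import Cfsg.Agent.H92.S69.Ranks
import Cfsg.Agent.S2300

/-!
# The counts for the non-solvable groups with trivial core
-/

set_option autoImplicit false
set_option linter.unusedSectionVars false
set_option linter.style.haveILetI false

open scoped ComplexConjugate

namespace Cfsg.Agent.H40.AbelTwo

open Cfsg Cfsg.Agent.H28.Ab

universe u

variable {G : Type u} [Group G] [Finite G] {M : Ideal AlgInt} {P : Sylow 2 G} {e : ℕ}
  {A Z : Subgroup G}

theorem Split.secRank_noncentral [Fact (Nat.Prime 2)] (h : Split P e A Z) (hM : IsPModular 2 M)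
    {a z : G} (ha : a ∈ A) (ha1 : a ≠ 1) (hz : z ∈ Z) : H92.K34.secRank 2 M (a * z) = 1 := by
  haveI := hM.2.1
  haveI := Fintype.ofFinite (Subgroup.centralizer ({a * z} : Set G))
  refine (H32.blockRank_principal_eq_one_iff hM).2 (exists_odd_complement h.comm _ ?_ ?_).1
  · exact fun x hx => Subgroup.mem_centralizer_singleton_iff.2
      (sylow_comm h.comm hx (mul_mem (h.leA ha) (h.leZ hz)))
  · intro n hn hnN
    refine h.free ha ha1 hnN ?_
    have h1 : n * (a * z) = a * z * n := Subgroup.mem_centralizer_singleton_iff.1 hn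
    rw [mul_assoc a z n, ← Subgroup.mem_center_iff.1 (h.central hz) n, ← mul_assoc, ← mul_assoc] at h1
    exact mul_right_cancel h1

theorem Split.secRank_central [Fact (Nat.Prime 2)] (h : Split P e A Z) (hM : IsPModular 2 M)
    {z : G} (hz : z ∈ Z) :
    H92.K34.secRank 2 M z = blockRank 2 (principalBlock M G) :=
  (H92.S69.blockRank_eq_secRank hM P (fun _ hx _ hy => sylow_comm h.comm hx hy) (h.leZ hz)
    fun t _ => by rw [Subgroup.mem_center_iff.1 (h.central hz) t, mul_inv_cancel_right]).symm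

theorem Split.exists_orderOf_pow [Fact (Nat.Prime 2)] (h : Split P e A Z) {x : G}
    (hx : x ∈ (P : Subgroup G)) : ∃ j, orderOf x = 2 ^ j :=
  H28.Ab.exists_orderOf ⟨x, hx⟩

open scoped Classical in
/-- Brauer's count. -/
theorem Split.card_block [Fact (Nat.Prime 2)] (h : Split P e A Z) (hM : IsPModular 2 M) :
    Nat.card (principalBlock M G) =
      Nat.card Z * (blockRank 2 (principalBlock M G) + 1) := by
  haveI := hM.2.1
  haveI := Fintype.ofFinite G
  haveI := Fintype.ofFinite Z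
  obtain ⟨a₀, ha₀, ha₀1⟩ := h.exists_ne_one
  set X : Finset G := (Finset.univ.image fun z : Z => (z : G)) ∪
    (Finset.univ.image fun z : Z => a₀ * (z : G)) with hXdef
  have hmem : ∀ x ∈ X, (x ∈ Z) ∨ ∃ z ∈ Z, a₀ * z = x := by
    intro x hx
    rcases Finset.mem_union.1 hx with hx | hx <;> obtain ⟨z, -, rfl⟩ := Finset.mem_image.1 hx
    · exact Or.inl z.2
    · exact Or.inr ⟨z, z.2, rfl⟩
  have hXP : ∀ x ∈ X, x ∈ (P : Subgroup G) := fun x hx => by
    rcases hmem x hx with hx | ⟨z, hz, rfl⟩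
    · exact h.leZ hx
    · exact mul_mem (h.leA ha₀) (h.leZ hz)
  have hX : ∀ x ∈ X, ∃ k : ℕ, orderOf x = 2 ^ k := fun x hx => h.exists_orderOf_pow (hXP x hx)
  have hrep : ∀ g : G, (∃ k : ℕ, orderOf g = 2 ^ k) → ∃! x, x ∈ X ∧ IsConj g x := by
    intro g hg
    obtain ⟨k, hk⟩ := hg
    obtain ⟨Q, hQ⟩ := (IsPGroup.of_card (p := 2) (n := k)
      (G := Subgroup.zpowers g) (by rw [Nat.card_zpowers, hk])).exists_le_sylow
    obtain ⟨c, hc⟩ := MulAction.exists_smul_eq G Q P
    have hcP : c * g * c⁻¹ ∈ (P : Subgroup G) := by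
      rw [← hc]; exact H22.conj_mem_smul_sylow (hQ (Subgroup.mem_zpowers g))
    obtain ⟨a, ha, z, hz, haz⟩ := h.exists_mul hcP
    have hex : ∃ x, x ∈ X ∧ IsConj g x := by
      by_cases ha1 : a = 1
      · refine ⟨z, Finset.mem_union_left _ (Finset.mem_image.2 ⟨⟨z, hz⟩, Finset.mem_univ _, rfl⟩),
          isConj_iff.2 ⟨c, ?_⟩⟩
        rw [← haz, ha1, one_mul]
      · obtain ⟨m, hm, hma⟩ := h.trans a ha ha1 a₀ ha₀ ha₀1
        refine ⟨a₀ * z, Finset.mem_union_right _ (Finset.mem_image.2 ⟨⟨z, hz⟩, Finset.mem_univ _, rfl⟩),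
          isConj_iff.2 ⟨m * c, ?_⟩⟩
        calc m * c * g * (m * c)⁻¹ = (m * a * m⁻¹) * (m * z * m⁻¹) := by
              rw [mul_inv_rev, show m * c * g * (c⁻¹ * m⁻¹) = m * (c * g * c⁻¹) * m⁻¹ by group, ← haz]
              group
          _ = a₀ * z := by
              rw [hma, Subgroup.mem_center_iff.1 (h.central hz) m, mul_inv_cancel_right]
    obtain ⟨x, hxX, hgx⟩ := hex
    refine ⟨x, ⟨hxX, hgx⟩, fun y hy => ?_⟩
    obtain ⟨d, hd⟩ := isConj_iff.1 (hgx.symm.trans hy.2)
    obtain ⟨n, hn, hnd⟩ := H22.abelian_sylow_controls P h.comm x (hXP x hxX) d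
      (hd ▸ hXP y hy.1)
    rw [hd] at hnd
    have hcen : ∀ w ∈ Z, n * w * n⁻¹ = w := fun w hw => by
      rw [Subgroup.mem_center_iff.1 (h.central hw) n, mul_inv_cancel_right]
    rcases hmem x hxX with hxZ | ⟨z', hz', hx'⟩
    · rw [← hnd, hcen x hxZ]
    · have h1 : n * x * n⁻¹ = (n * a₀ * n⁻¹) * z' := by
        rw [← hx', show n * (a₀ * z') * n⁻¹ = (n * a₀ * n⁻¹) * (n * z' * n⁻¹) by group, hcen z' hz']
      rw [h1] at hnd
      rcases hmem y hy.1 with hyZ | ⟨w, hw, hy'⟩
      · obtain ⟨h2, -⟩ := h.mul_inj (h.norm n hn a₀ ha₀) A.one_mem hz' hyZ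
          (hnd.trans (one_mul y).symm)
        exact absurd (conj_eq_one_iff.1 h2) ha₀1
      · obtain ⟨-, h3⟩ := h.mul_inj (h.norm n hn a₀ ha₀) ha₀ hz' hw (hnd.trans hy'.symm)
        rw [← hy', ← hx', h3]
  have hcount := H32.card_eq_sum_blockRank hM (H41.isPBlock_principalBlock (G := G)) hX hrep
  rw [hcount, Finset.sum_congr rfl fun x hx =>
    (show _ = H92.K34.secRank 2 M x by
      rw [show {b : Set (Cfsg.IrrCharacter (Subgroup.centralizer ({x} : Set G))) |
          Cfsg.IsInducedBlock M (Subgroup.centralizer ({x} : Set G)) b (principalBlock M G)} =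
        {principalBlock M (Subgroup.centralizer ({x} : Set G))} from
          Set.ext fun b => H92.K34.isInduced_iff hM (hX x hx) b, finsum_mem_singleton]
      rfl)]
  rw [hXdef, Finset.sum_union, Finset.sum_image fun _ _ _ _ e1 => Subtype.ext e1,
    Finset.sum_image fun _ _ _ _ e1 => Subtype.ext (mul_left_cancel e1),
    Finset.sum_congr rfl fun z _ => h.secRank_central hM z.2,
    Finset.sum_congr rfl fun z _ => h.secRank_noncentral hM ha₀ ha₀1 z.2, Finset.sum_const,
    Finset.sum_const, Finset.card_univ, ← Nat.card_eq_fintype_card, smul_eq_mul, smul_eq_mul]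
  · ring
  · rw [Finset.disjoint_left]
    rintro _ h1 h2
    obtain ⟨z, -, rfl⟩ := Finset.mem_image.1 h1
    obtain ⟨w, -, hw⟩ := Finset.mem_image.1 h2
    exact ha₀1 (h.mul_inj ha₀ A.one_mem w.2 z.2 (hw.trans (one_mul (z : G)).symm)).1

theorem Split.odd (h : Split P e A Z) : Odd e := by
  haveI : Fact (Nat.Prime 2) := ⟨Nat.prime_two⟩
  exact h.idx ▸ odd_automiser h.comm

theorem Split.ctx_of_bot [Fact (Nat.Prime 2)] (h : Split P e A ⊥) : Ctx P e := by
  refine ⟨h.comm, h.idx, fun y hy hy1 => ?_⟩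
  have hyA : y ∈ A := by
    have := h.sup
    rw [sup_bot_eq] at this
    exact this.symm ▸ hy
  refine le_antisymm (fun n hn => h.free hyA hy1 hn.2 (Subgroup.mem_centralizer_singleton_iff.1 hn.1))
    (le_inf (Subgroup.centralizer_le (Set.singleton_subset_iff.2 hy))
      (Subgroup.centralizer_le_normalizer _))

open scoped Classical in
/-- Eight or more: every character of the principal block has value `±1` at the involutions. -/
theorem Split.card_block_of_bot [Fact (Nat.Prime 2)] (h : Split P e A ⊥) (hM : IsPModular 2 M)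
    (h8 : 8 ≤ e + 1) (hdeg : ∀ χ : IrrCharacter G, χ.1 1 = 1 ∨ χ.1 1 = (e : ℂ) ∨
      χ.1 1 = ((e + 1 : ℕ) : ℂ) ∨ χ.1 1 = ((e + 2 : ℕ) : ℂ)) :
    Nat.card (principalBlock M G) = e + 1 := by
  haveI := hM.2.1
  haveI := Fintype.ofFinite G
  haveI := Fintype.ofFinite ↥(P : Subgroup G)
  have hctx := h.ctx_of_bot
  have hAP : A = (P : Subgroup G) := by simpa using h.sup
  obtain ⟨a₀, ha₀, ha₀1⟩ := h.exists_ne_one
  have hq : Nat.card P = e + 1 := by rw [← hAP]; exact h.card.symm
  have hord : orderOf a₀ = 2 := orderOf_eq_prime (by rw [sq]; exact h.exp2 a₀ ha₀) ha₀1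
  have hnorm := hctx.block_norm hM (y := ⟨a₀, h.leA ha₀⟩) fun e1 => ha₀1 (congrArg Subtype.val e1)
  set S := Finset.univ.filter (· ∈ principalBlock M G) with hS
  choose k hk using fun χ : IrrCharacter G => H56.exists_int_involution χ hord
  set v : IrrCharacter G → ℤ := fun χ => 2 * (k χ : ℤ) - Cfsg.charDegree χ.1 with hv
  have hval : ∀ χ : IrrCharacter G, χ.1 a₀ = (v χ : ℂ) := fun χ => hk χ
  have hsum : ∑ χ ∈ S, v χ ^ 2 = (e + 1 : ℤ) := by
    apply Int.cast_injective (α := ℂ)
    push_cast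
    rw [show ((e : ℂ) + 1) = (Nat.card P : ℂ) by rw [hq]; push_cast; rfl, ← hnorm]
    refine Finset.sum_congr rfl fun χ _ => ?_
    rw [show ((⟨a₀, h.leA ha₀⟩ : ↥(P : Subgroup G)) : G) = a₀ from rfl, hval, map_intCast, sq]
  have hone : ∀ χ ∈ S, v χ ^ 2 = 1 := by
    intro χ hχ
    have hb : χ ∈ principalBlock M G := (Finset.mem_filter.1 hχ).2
    have hle : v χ ^ 2 ≤ (e + 1 : ℤ) :=
      hsum ▸ Finset.single_le_sum (fun i _ => sq_nonneg (v i)) hχ
    have hP' : ∀ y : ↥(P : Subgroup G), y ≠ 1 → χ.1 (y : G) = (v χ : ℂ) := by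
      intro y hy
      obtain ⟨m, hm, hmy⟩ := h.trans a₀ ha₀ ha₀1 y (hAP.symm ▸ y.2)
        fun e1 => hy (Subtype.ext e1)
      rw [← hval χ]
      exact (H26.irr_eq_of_isConj χ (isConj_iff.2 ⟨m, hmy⟩)).symm
    obtain ⟨c, hc⟩ := degree_congr hP'
    rw [hq] at hc
    push_cast at hc
    have hne : v χ ≠ 0 := by
      intro h0
      have hsing := H40.blockOf_eq_singleton hM χ (H40.factorization_eq_of_vanish χ ?_).ge
      · have hb1 : H26.oneIrr G ∈ Cfsg.blockOf M (χ : G → ℂ) := by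
          rw [H41.block_eq_of_mem_of_mem (H41.isPBlock_blockOf χ) H41.isPBlock_principalBlock
            (H41.mem_blockOf_self χ) hb]
          show SameBlock M (fun _ : G => (1 : ℂ)) ((H26.oneIrr G : IrrCharacter G) : G → ℂ)
          exact H41.sameBlock_refl _
        rw [hsing, Set.mem_singleton_iff] at hb1
        have h1 := hval χ
        rw [← hb1, H26.oneIrr_val, hb1, h0, Int.cast_zero] at h1
        exact one_ne_zero h1
      · rintro g hg1 ⟨j, hj⟩
        obtain ⟨Q, hQ⟩ := (IsPGroup.of_card (p := 2) (n := j)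
          (G := Subgroup.zpowers g) (by rw [Nat.card_zpowers, hj])).exists_le_sylow
        obtain ⟨d, hd⟩ := MulAction.exists_smul_eq G Q P
        have hdP : d * g * d⁻¹ ∈ (P : Subgroup G) := by
          rw [← hd]; exact H22.conj_mem_smul_sylow (hQ (Subgroup.mem_zpowers g))
        rw [H26.irr_eq_of_isConj χ (isConj_iff.2 ⟨d, rfl⟩ : IsConj g (d * g * d⁻¹)),
          hP' ⟨_, hdP⟩ fun e1 => hg1 (conj_eq_one_iff.1 (congrArg Subtype.val e1)), h0, Int.cast_zero]
    have hdd : (Cfsg.charDegree χ.1 : ℤ) = 1 ∨ (Cfsg.charDegree χ.1 : ℤ) = e ∨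
        (Cfsg.charDegree χ.1 : ℤ) = e + 1 ∨ (Cfsg.charDegree χ.1 : ℤ) = e + 2 := by
      have := hdeg χ
      rw [H42.irr_one_eq] at this
      rcases this with h' | h' | h' | h'
      · left; exact_mod_cast h'
      · right; left; exact_mod_cast h'
      · right; right; left; exact_mod_cast h'
      · right; right; right; exact_mod_cast h'
    have hb2 : -(e : ℤ) + 2 ≤ v χ ∧ v χ ≤ (e : ℤ) - 2 := by
      have h8' : (8 : ℤ) ≤ e + 1 := by exact_mod_cast h8
      constructor <;> nlinarith [sq_nonneg (v χ - 1), sq_nonneg (v χ + 1)]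
    have key : ∀ j : ℤ, -(e : ℤ) - 1 < ((e : ℤ) + 1) * j → ((e : ℤ) + 1) * j < (e : ℤ) + 1 → j = 0 := by
      intro j h1 h2
      by_contra hj
      rcases lt_or_gt_of_ne hj with h' | h'
      · nlinarith
      · nlinarith
    rcases hdd with hd | hd | hd | hd <;> rw [hd] at hc
    · have := key ((c : ℤ) - v χ) (by linarith) (by linarith)
      have : v χ = 1 := by nlinarith
      rw [this]; norm_num
    · have := key ((c : ℤ) - v χ - 1) (by linarith) (by linarith)
      have : v χ = -1 := by nlinarith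
      rw [this]; norm_num
    · have := key ((c : ℤ) - v χ - 1) (by linarith) (by linarith)
      exact absurd (by nlinarith : v χ = 0) hne
    · have := key ((c : ℤ) - v χ - 1) (by linarith) (by linarith)
      have : v χ = 1 := by nlinarith
      rw [this]; norm_num
  rw [Finset.sum_congr rfl hone, Finset.sum_const, nsmul_eq_mul, mul_one] at hsum
  rw [Nat.card_eq_fintype_card, Fintype.card_subtype]
  exact_mod_cast hsum

/-- The quotient by the central part. -/
theorem Split.quotient [Fact (Nat.Prime 2)] (h : Split P e A Z) [Z.Normal] :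
    Split (P.mapSurjective (QuotientGroup.mk'_surjective Z)) e
      (A.map (QuotientGroup.mk' Z)) ⊥ := by
  set f := QuotientGroup.mk' Z with hf
  set Pb := P.mapSurjective (QuotientGroup.mk'_surjective Z)
  have hker : ∀ x : G, f x = 1 ↔ x ∈ Z := fun x => QuotientGroup.eq_one_iff x
  have hinj : ∀ a ∈ A, ∀ b ∈ A, f a = f b → a = b := fun a ha b hb he => by
    have h1 : b⁻¹ * a ∈ A ⊓ Z :=
      ⟨A.mul_mem (A.inv_mem hb) ha, (hker _).1 (by rw [map_mul, map_inv, he, inv_mul_cancel])⟩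
    rw [h.inf, Subgroup.mem_bot, inv_mul_eq_one] at h1
    exact h1.symm
  have hmapA : (P : Subgroup G).map f = A.map f := by
    rw [← h.sup, Subgroup.map_sup, (Subgroup.map_eq_bot_iff Z).2 (QuotientGroup.ker_mk' Z).ge,
      sup_bot_eq]
  have hcen : (Subgroup.centralizer ((Pb : Subgroup (G ⧸ Z)) : Set (G ⧸ Z))).comap f =
      Subgroup.centralizer ((P : Subgroup G) : Set G) := by
    refine le_antisymm (fun g hg => ?_) fun g hg => ?_
    · have hgN : g ∈ Subgroup.normalizer ((P : Subgroup G) : Set G) :=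
        (mem_normalizer_map_iff P Z h.leZ).1 (Subgroup.centralizer_le_normalizer _ hg)
      refine Subgroup.mem_centralizer_iff.2 fun x hx => ?_
      obtain ⟨a, ha, z, hz, rfl⟩ := h.exists_mul hx
      have h1 : g * a * g⁻¹ = a := by
        refine hinj _ (h.norm g hgN a ha) a ha ?_
        rw [map_mul, map_mul, map_inv, ← Subgroup.mem_centralizer_iff.1 hg (f a)
          ⟨a, h.leA ha, rfl⟩, mul_inv_cancel_right]
      rw [mul_assoc, ← Subgroup.mem_center_iff.1 (h.central hz) g, ← mul_assoc,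
        ← mul_inv_eq_iff_eq_mul.1 h1, mul_assoc]
    · refine Subgroup.mem_centralizer_iff.2 ?_
      rintro _ ⟨x, hx, rfl⟩
      rw [← map_mul, ← map_mul, Subgroup.mem_centralizer_iff.1 hg x hx]
  have hNmap : (Subgroup.normalizer ((P : Subgroup G) : Set G)).map f =
      Subgroup.normalizer ((Pb : Subgroup (G ⧸ Z)) : Set (G ⧸ Z)) := by
    refine le_antisymm ?_ fun y hy => ?_
    · rintro _ ⟨g, hg, rfl⟩
      exact (mem_normalizer_map_iff P Z h.leZ).2 hg
    · obtain ⟨g, rfl⟩ := QuotientGroup.mk'_surjective Z y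
      exact ⟨g, (mem_normalizer_map_iff P Z h.leZ).1 hy, rfl⟩
  refine ⟨⟨⟨?_⟩⟩, ?_, h.prime, ?_, bot_le, bot_le, inf_bot_eq _, ?_, ?_, ?_, ?_, ?_⟩
  · rintro ⟨_, x, hx, rfl⟩ ⟨_, y, hy, rfl⟩
    exact Subtype.ext ((map_mul f x y).symm.trans
      ((congrArg f (sylow_comm h.comm hx hy)).trans (map_mul f y x)))
  · rw [← hNmap, ← Subgroup.relIndex_comap, hcen]
    exact h.idx
  · exact Subgroup.map_mono h.leA
  · rw [sup_bot_eq]
    exact hmapA.symm
  · rintro _ ⟨a, ha, rfl⟩
    rw [← map_mul, h.exp2 a ha, map_one]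
  · rw [h.card]
    refine Nat.card_congr (Equiv.ofBijective
      (fun a : A => (⟨f a, a, a.2, rfl⟩ : A.map f)) ⟨fun a b e1 => ?_, ?_⟩)
    · exact Subtype.ext (hinj _ a.2 _ b.2 (congrArg Subtype.val e1))
    · rintro ⟨_, a, ha, rfl⟩
      exact ⟨⟨a, ha⟩, rfl⟩
  · intro m hm
    rw [← hNmap] at hm
    obtain ⟨g, hg, rfl⟩ := hm
    rintro _ ⟨a, ha, rfl⟩
    exact ⟨g * a * g⁻¹, h.norm g hg a ha, by rw [map_mul, map_mul, map_inv]⟩
  · rintro _ ⟨a, ha, rfl⟩ ha1 _ ⟨b, hb, rfl⟩ hb1
    obtain ⟨m, hm, hmb⟩ := h.trans a ha (fun e1 => ha1 (by rw [e1, map_one])) b hb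
      fun e1 => hb1 (by rw [e1, map_one])
    exact ⟨f m, hNmap ▸ ⟨m, hm, rfl⟩, by rw [← hmb, map_mul, map_mul, map_inv]⟩

/-- The rank of the quotient. -/
theorem Split.blockRank_of_bot [Fact (Nat.Prime 2)] (h : Split P e A ⊥) (hM : IsPModular 2 M)
    (hlarge : 8 ≤ e + 1 → ∃ (F : Type) (_ : Field F) (_ : Fintype F), CharP F 2 ∧
      Fintype.card F = e + 1 ∧ Nonempty (G ≃* Matrix.SpecialLinearGroup (Fin 2) F)) :
    blockRank 2 (principalBlock M G) = e := by
  haveI := hM.2.1
  haveI := H41.IsPModular.charP hM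
  haveI := Fintype.ofFinite G
  have hAP : A = (P : Subgroup G) := by simpa using h.sup
  by_cases h8 : 8 ≤ e + 1
  · obtain ⟨F, _, _, _, hF, ⟨φ⟩⟩ := hlarge h8
    have hdeg := (S2300.result (F := F)).1
    have hk := h.card_block_of_bot hM h8 fun χ => by
      have h1 := hdeg _ (H43.irrCongr φ.symm χ).2
      rw [hF, H43.irrCongr_apply, map_one] at h1
      rcases h1 with h' | h' | h' | h'
      · exact Or.inl h'
      · refine Or.inr (Or.inl ?_)
        rw [h']; push_cast; ring
      · exact Or.inr (Or.inr (Or.inl h'))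
      · refine Or.inr (Or.inr (Or.inr ?_))
        rw [h']; push_cast; ring
    have := h.card_block hM
    rw [hk, Subgroup.card_bot, one_mul] at this
    omega
  · have he3 : e = 3 := by
      obtain ⟨k, hk⟩ := IsPGroup.iff_card.1 P.2
      rw [← hAP, ← h.card] at hk
      have := h.prime.two_le
      have h2 : e ≠ 2 := fun e1 => by
        have hodd := h.odd
        rw [e1] at hodd
        exact absurd hodd (by decide)
      have hk3 : k < 3 := by
        by_contra hk3
        exact h8 (hk ▸ le_trans (by norm_num : 8 ≤ 2 ^ 3)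
          (Nat.pow_le_pow_right (by norm_num) (not_lt.1 hk3)))
      interval_cases k <;> simp at hk <;> omega
    subst he3
    have hB : IsPBlock M (principalBlock M G) := H41.isPBlock_principalBlock
    have hD := (S4652.result 2 M hM (P : Subgroup G)).2 ⟨P, rfl⟩
    obtain ⟨b, hm⟩ := H40.NilpotentBlocks.exists_isMaxEl_of_defect hM hB hD
    have h4 : Nat.card P = 4 := by rw [← hAP]; exact h.card.symm
    obtain ⟨hc, -, hrank⟩ := H40.klein_four_invariants hM hB hm hD h4
      (fun x hx => h.exp2 x (hAP.symm ▸ hx))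
    rw [hrank]
    refine hc.resolve_left fun h1 => ?_
    have hle := H92.S69.normalizer_le_centralizer_of_complement P
      (fun _ hx _ hy => sylow_comm h.comm hx hy)
      ((H32.blockRank_principal_eq_one_iff hM).1 (hrank.trans h1))
    have := h.idx
    rw [Subgroup.relIndex_eq_one.2 hle] at this
    omega

/-- The counts in the non-solvable case with trivial core. -/
theorem counts_nonsolvable [Fact (Nat.Prime 2)] (hM : IsPModular 2 M)
    (hO : pPrimeCore 2 G = ⊥) (hP : IsMulCommutative P) (he : e.Prime)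
    (hidx : (Subgroup.centralizer ((P : Subgroup G) : Set G)).relIndex
      (Subgroup.normalizer ((P : Subgroup G) : Set G)) = e) (hns : ¬ Group.IsSolvable G) :
    blockRank 2 (principalBlock M G) = e ∧ Nat.card (principalBlock M G) = Nat.card P := by
  obtain ⟨D, Z, hn, -, h, hDZ, hlarge⟩ := exists_split hM hO hP he hidx hns
  haveI := hn
  haveI : Z.Normal := ⟨fun a ha g => by
    rwa [Subgroup.mem_center_iff.1 (h.central ha) g, mul_inv_cancel_right]⟩
  haveI := hM.2.1
  haveI := Fintype.ofFinite G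
  haveI := Fintype.ofFinite (G ⧸ Z)
  have hsup : Z ⊔ Subgroup.centralizer (Z : Set G) = ⊤ :=
    eq_top_iff.2 fun g _ => Subgroup.mem_sup_right (Subgroup.mem_centralizer_iff.2
      fun a ha => (Subgroup.mem_center_iff.1 (h.central ha) g).symm)
  have hrank : blockRank 2 (principalBlock M G) = e := by
    rw [H40.blockRank_principal_quotient hM (P.2.to_le h.leZ) hsup]
    refine h.quotient.blockRank_of_bot hM fun h8 => ?_
    obtain ⟨htop, F, fF, ftF, hch, hF, ⟨φ⟩⟩ := hlarge h8
    refine ⟨F, fF, ftF, hch, hF, ⟨MulEquiv.trans ?_ φ⟩⟩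
    refine (MulEquiv.ofBijective ((QuotientGroup.mk' Z).comp D.subtype) ⟨?_, ?_⟩).symm
    · refine (injective_iff_map_eq_one _).2 fun d hd => ?_
      have h1 : (d : G) ∈ D ⊓ Z := ⟨d.2, (QuotientGroup.eq_one_iff _).1 hd⟩
      rw [hDZ, Subgroup.mem_bot] at h1
      exact Subtype.ext h1
    · intro y
      obtain ⟨g, rfl⟩ := QuotientGroup.mk'_surjective Z y
      obtain ⟨d, hd, z, hz, hdz⟩ := Subgroup.mem_sup_of_normal_right.1
        (htop ▸ Subgroup.mem_top g : g ∈ D ⊔ Z)
      refine ⟨⟨d, hd⟩, ?_⟩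
      show (QuotientGroup.mk' Z) d = _
      rw [← hdz, map_mul, show (QuotientGroup.mk' Z) z = 1 from (QuotientGroup.eq_one_iff z).2 hz,
        mul_one]
  refine ⟨hrank, ?_⟩
  rw [h.card_block hM, hrank, h.card_mul, h.card, mul_comm]

end Cfsg.Agent.H40.AbelTwo
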