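import Cfsg.Agent.H40.AbelTwo.Local
import Cfsg.Agent.H40.AbelTwo.Signalizer
import Cfsg.Agent.H28.ZStar
import Cfsg.Agent.H92.EC.Inherit
import Cfsg.Agent.H85.SylowCount

/-!
# Elements fixed by the normaliser of a commutative Sylow 2-subgroup are central modulo the core
-/

set_option autoImplicit false
set_option linter.unusedSectionVars false
set_option linter.style.haveILetI false

namespace Cfsg.Agent.H40.AbelTwo

open Cfsg

universe u

variable {G : Type u} [Group G] [Finite G] {P : Sylow 2 G}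

theorem mem_normalizer_map_iff [Fact (Nat.Prime 2)] (P : Sylow 2 G) (K : Subgroup G) [K.Normal]
    (hK : K ≤ (P : Subgroup G)) {g : G} :
    (g : G ⧸ K) ∈ Subgroup.normalizer
      (((P : Subgroup G).map (QuotientGroup.mk' K) : Subgroup (G ⧸ K)) : Set (G ⧸ K)) ↔
      g ∈ Subgroup.normalizer ((P : Subgroup G) : Set G) := by
  have h := H85.comap_normalizer_map_mk P K
  rw [sup_eq_left.2 (hK.trans Subgroup.le_normalizer)] at h
  conv_rhs => rw [← h]
  rfl

/-- An element of a commutative Sylow 2-subgroup fixed by its normaliser is central, if the core is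
trivial. -/
theorem mem_center_of_fixed [Fact (Nat.Prime 2)] (hO : pPrimeCore 2 G = ⊥)
    (hP : IsMulCommutative P) {z : G} (hz : z ∈ (P : Subgroup G))
    (hfix : z ∈ Subgroup.centralizer
      ((Subgroup.normalizer ((P : Subgroup G) : Set G) : Subgroup G) : Set G)) :
    z ∈ Subgroup.center G := by
  induction hn : orderOf z using Nat.strong_induction_on generalizing z with
  | _ n ih =>
  subst hn
  by_cases hz1 : z = 1
  · exact hz1 ▸ one_mem _
  obtain ⟨k, hk⟩ := IsPGroup.iff_orderOf.1 P.2 (⟨z, hz⟩ : ↥(P : Subgroup G))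
  rw [Subgroup.orderOf_mk] at hk
  obtain ⟨j, rfl⟩ : ∃ j, k = j + 1 := by
    rcases k with _ | j
    · exact absurd (orderOf_eq_one_iff.1 (by simpa using hk)) hz1
    · exact ⟨j, rfl⟩
  have hlt : orderOf (z * z) < orderOf z := by
    rw [hk]
    refine lt_of_le_of_lt (Nat.le_of_dvd (by positivity) ?_)
      (Nat.pow_lt_pow_right (by norm_num : 1 < 2) (Nat.lt_succ_self j))
    rw [orderOf_dvd_iff_pow_eq_one, ← pow_two, ← pow_mul, ← pow_succ', ← hk, pow_orderOf_eq_one]
  have hsq := ih _ hlt (mul_mem hz hz) (mul_mem hfix hfix) rfl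
  set K := Subgroup.zpowers (z * z)
  have hKc : K ≤ Subgroup.center G := Subgroup.zpowers_le.2 hsq
  have hKP : K ≤ (P : Subgroup G) := Subgroup.zpowers_le.2 (mul_mem hz hz)
  haveI hKn : K.Normal := ⟨fun a ha g => by
    rwa [Subgroup.mem_center_iff.1 (hKc ha) g, mul_inv_cancel_right]⟩
  have hO' := H92.EC.pPrimeCore_quotient_central hO K hKc (P.2.to_le hKP)
  let Q : Sylow 2 (G ⧸ K) := P.mapSurjective (QuotientGroup.mk'_surjective K)
  have hQ : IsMulCommutative Q := ⟨⟨by
    rintro ⟨_, a, ha, rfl⟩ ⟨_, b, hb, rfl⟩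
    refine Subtype.ext ?_
    show QuotientGroup.mk' K a * QuotientGroup.mk' K b = QuotientGroup.mk' K b * QuotientGroup.mk' K a
    rw [← map_mul, ← map_mul, sylow_comm hP ha hb]⟩⟩
  have hzQ : (z : G ⧸ K) ∈ (Q : Subgroup (G ⧸ K)) := ⟨z, hz, rfl⟩
  have hord : orderOf (z : G ⧸ K) = 2 := by
    refine orderOf_eq_prime ?_ ?_
    · rw [pow_two, ← QuotientGroup.mk_mul, QuotientGroup.eq_one_iff]
      exact Subgroup.mem_zpowers _
    · intro h
      rw [QuotientGroup.eq_one_iff] at h
      exact (Nat.le_of_dvd (orderOf_pos _) (orderOf_dvd_of_mem_zpowers h)).not_gt hlt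
  have hiso : H28.IsIsolatedInvolution (z : G ⧸ K) := by
    refine ⟨hord, fun g hcomm => ?_⟩
    set x := g * (z : G ⧸ K) * g⁻¹
    have hle : (Q : Subgroup (G ⧸ K)) ≤ Subgroup.centralizer ({(z : G ⧸ K)} : Set (G ⧸ K)) :=
      fun y hy => Subgroup.mem_centralizer_singleton_iff.2 (sylow_comm hQ hy hzQ)
    obtain ⟨c, hc, hcx⟩ := exists_conj_mem_sylow hle
      (Subgroup.mem_centralizer_singleton_iff.2 hcomm.eq.symm)
      (show orderOf x = 2 by rw [H28.Ab.orderOf_conj', hord])
    obtain ⟨m, hm, hms⟩ := exists_fusion hQ (S := {(z : G ⧸ K)}) (Set.singleton_subset_iff.2 hzQ)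
      (x := c * g) fun s hs => by
        rw [Set.mem_singleton_iff.1 hs, mul_inv_rev]
        simpa [x, mul_assoc] using hcx
    obtain ⟨n, rfl⟩ := QuotientGroup.mk'_surjective K m
    have hnN := (mem_normalizer_map_iff P K hKP).1 hm
    have h1 := hms _ rfl
    rw [QuotientGroup.mk'_apply, ← QuotientGroup.mk_mul, ← QuotientGroup.mk_inv,
      ← QuotientGroup.mk_mul, Subgroup.mem_centralizer_iff.1 hfix n hnN, mul_inv_cancel_right] at h1
    have hcz := Subgroup.mem_centralizer_singleton_iff.1 hc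
    calc x = c⁻¹ * ((c * g) * z * (c * g)⁻¹) * c := by simp only [x]; group
      _ = c⁻¹ * ((z : G ⧸ K) * c) := by rw [← h1, mul_assoc]
      _ = z := by rw [← hcz, inv_mul_cancel_left]
  refine Subgroup.mem_center_iff.2 fun g => ?_
  have h2 := H28.zStar hiso (g : G ⧸ K)
  rw [hO', Subgroup.mem_bot, ← QuotientGroup.mk_inv, ← QuotientGroup.mk_inv, ← QuotientGroup.mk_mul,
    ← QuotientGroup.mk_mul, ← QuotientGroup.mk_mul, QuotientGroup.eq_one_iff] at h2
  have hgz : g * z * g⁻¹ ∈ (P : Subgroup G) := by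
    have h4 := inv_mem (mul_mem (inv_mem hz) (hKP h2))
    simpa [mul_assoc] using h4
  obtain ⟨n, hn, hnz⟩ := H22.abelian_sylow_controls P hP z hz g hgz
  rw [Subgroup.mem_centralizer_iff.1 hfix n hn, mul_inv_cancel_right] at hnz
  exact mul_inv_eq_iff_eq_mul.1 hnz.symm

end Cfsg.Agent.H40.AbelTwo
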