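import Cfsg.Agent.H40.AbelTwo.Counts
import Cfsg.Agent.H19.Fitting
import Cfsg.Agent.H59.Transfer
import Cfsg.Agent.H32.PrincipalGalois
import Cfsg.Agent.H40.CentralQuotient

/-!
# The solvable case and the reduction to trivial core
-/

set_option autoImplicit false
set_option linter.unusedSectionVars false
set_option linter.style.haveILetI false

namespace Cfsg.Agent.H40.AbelTwo

open Cfsg

universe u

variable {G : Type u} [Group G] [Finite G] {M : Ideal AlgInt} {P : Sylow 2 G} {e : ℕ}

theorem normal_le_sylow_of_pgroup [Fact (Nat.Prime 2)] (P : Sylow 2 G) (K : Subgroup G) [K.Normal]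
    (hK : IsPGroup 2 K) : K ≤ (P : Subgroup G) := by
  obtain ⟨Q, hQ⟩ := hK.exists_le_sylow
  obtain ⟨c, rfl⟩ := MulAction.exists_smul_eq G Q P
  intro x hx
  rw [H22.mem_smul_sylow]
  exact hQ (by simpa using (‹K.Normal›).conj_mem x hx c⁻¹)

/-- Regular elements in one coset of a normal Sylow subgroup of prime index are conjugate. -/
theorem isConj_of_mk_eq [Fact (Nat.Prime 2)] [(P : Subgroup G).Normal] (he : e.Prime) (hodd : Odd e)
    (hi : (P : Subgroup G).index = e) {g h : G} (hg : ¬ 2 ∣ orderOf g) (hh : ¬ 2 ∣ orderOf h)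
    (hgh : (g : G ⧸ (P : Subgroup G)) = h) : IsConj g h := by
  haveI : Fact e.Prime := ⟨he⟩
  obtain ⟨k, hk⟩ := IsPGroup.iff_card.1 P.2
  have hG : Nat.card G = 2 ^ k * e := by rw [← (P : Subgroup G).card_mul_index, hi, hk]
  have hdvd : ∀ x : G, ¬ 2 ∣ orderOf x → orderOf x ∣ e := fun x hx =>
    (Nat.Coprime.pow_right k ((Nat.prime_two.coprime_iff_not_dvd.2 hx).symm)).dvd_of_dvd_mul_left
      (hG ▸ orderOf_dvd_natCard x)
  have hone : ∀ x : G, x ∈ (P : Subgroup G) → ¬ 2 ∣ orderOf x → x = 1 := by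
    intro x hx hx2
    obtain ⟨j, hj⟩ := IsPGroup.iff_orderOf.1 P.2 (⟨x, hx⟩ : ↥(P : Subgroup G))
    rw [Subgroup.orderOf_mk] at hj
    rcases j with _ | j
    · exact orderOf_eq_one_iff.1 (by simpa using hj)
    · exact absurd (hj ▸ dvd_pow_self 2 j.succ_ne_zero) hx2
  by_cases hgP : g ∈ (P : Subgroup G)
  · have hhP : h ∈ (P : Subgroup G) := by
      rw [← QuotientGroup.eq_one_iff, ← hgh, QuotientGroup.eq_one_iff]; exact hgP
    rw [hone g hgP hg, hone h hhP hh]
  have hhP : h ∉ (P : Subgroup G) := fun hhP => hgP (by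
    rw [← QuotientGroup.eq_one_iff, hgh, QuotientGroup.eq_one_iff]; exact hhP)
  have hord : ∀ x : G, x ∉ (P : Subgroup G) → ¬ 2 ∣ orderOf x → orderOf x = e := fun x hx hx2 =>
    (he.eq_one_or_self_of_dvd _ (hdvd x hx2)).resolve_left fun h1 =>
      hx ((orderOf_eq_one_iff.1 h1) ▸ one_mem _)
  have hne : ¬ e ∣ 2 ^ k := fun h1 => (Nat.not_even_iff_odd.2 hodd) (by
    rw [(Nat.prime_dvd_prime_iff_eq he Nat.prime_two).1 (he.dvd_of_dvd_pow h1)]
    exact even_two)
  have hsyl : ∀ x : G, x ∉ (P : Subgroup G) → ¬ 2 ∣ orderOf x →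
      ∃ S : Sylow e G, (S : Subgroup G) = Subgroup.zpowers x := by
    intro x hx hx2
    have hc : Nat.card (Subgroup.zpowers x) = e := by rw [Nat.card_zpowers, hord x hx hx2]
    have hidx : (Subgroup.zpowers x).index = 2 ^ k := by
      have := (Subgroup.zpowers x).card_mul_index
      rw [hc, hG, mul_comm (2 ^ k) e] at this
      exact Nat.eq_of_mul_eq_mul_left he.pos this
    exact ⟨(IsPGroup.of_card (p := e) (n := 1) (G := Subgroup.zpowers x) (by rw [hc, pow_one])).toSylow
      (by rw [hidx]; exact hne), rfl⟩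
  obtain ⟨S, hS⟩ := hsyl g hgP hg
  obtain ⟨T, hT⟩ := hsyl h hhP hh
  obtain ⟨c, hc⟩ := MulAction.exists_smul_eq G S T
  have hmem : c * g * c⁻¹ ∈ Subgroup.zpowers h := by
    rw [← hT, ← hc]
    exact H22.conj_mem_smul_sylow (hS ▸ Subgroup.mem_zpowers g)
  obtain ⟨j, hj⟩ := Subgroup.mem_zpowers_iff.1 hmem
  have hc' : Nat.card (G ⧸ (P : Subgroup G)) = e := hi
  haveI : IsCyclic (G ⧸ (P : Subgroup G)) := isCyclic_of_prime_card hc'
  letI := IsCyclic.commGroup (α := G ⧸ (P : Subgroup G))
  have h1 := congrArg (fun x : G => (x : G ⧸ (P : Subgroup G))) hj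
  simp only [QuotientGroup.mk_zpow, QuotientGroup.mk_mul, QuotientGroup.mk_inv, hgh,
    mul_inv_cancel_comm] at h1
  have h2 : h ^ (j - 1) ∈ (P : Subgroup G) := by
    rw [← QuotientGroup.eq_one_iff, QuotientGroup.mk_zpow, zpow_sub_one, h1, mul_inv_cancel]
  have h3 : h ^ (j - 1) = 1 := hone _ h2 fun hd => hh (hd.trans
    (orderOf_dvd_of_mem_zpowers (Subgroup.zpow_mem_zpowers h (j - 1))))
  refine isConj_iff.2 ⟨c, ?_⟩
  rw [← hj, show j = (j - 1) + 1 by ring, zpow_add_one, h3, one_mul]

open scoped Classical in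
/-- The solvable case. -/
theorem blockRank_solvable [Fact (Nat.Prime 2)] [Group.IsSolvable G] (hM : IsPModular 2 M)
    (hO : pPrimeCore 2 G = ⊥) (hP : IsMulCommutative P) (he : e.Prime)
    (hidx : (Subgroup.centralizer ((P : Subgroup G) : Set G)).relIndex
      (Subgroup.normalizer ((P : Subgroup G) : Set G)) = e) :
    blockRank 2 (principalBlock M G) = e := by
  haveI := hM.2.1
  haveI := Fintype.ofFinite G
  have hodd : Odd e := hidx ▸ odd_automiser hP
  haveI : (pCore 2 G).Normal := H19.pCore_normal 2 G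
  have hOP : pCore 2 G ≤ (P : Subgroup G) :=
    normal_le_sylow_of_pgroup P (pCore 2 G) (H19.pCore_isPGroup 2)
  have hPO : (P : Subgroup G) ≤ pCore 2 G :=
    ((le_centralizer_self hP).trans (Subgroup.centralizer_le hOP)).trans (H19.centralizer_pCore_le hO)
  haveI hPn : (P : Subgroup G).Normal := by rw [le_antisymm hPO hOP]; infer_instance
  have hCP : Subgroup.centralizer ((P : Subgroup G) : Set G) = (P : Subgroup G) :=
    le_antisymm (((Subgroup.centralizer_le hOP).trans (H19.centralizer_pCore_le hO)).trans hOP)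
      (le_centralizer_self hP)
  have hi : (P : Subgroup G).index = e := by
    rw [hCP, Subgroup.normalizer_eq_top, Subgroup.relIndex_top_right] at hidx
    exact hidx
  set Q := (P : Subgroup G) with hQ
  haveI := Fintype.ofFinite (G ⧸ Q)
  have hqreg : ∀ q : G ⧸ Q, ¬ 2 ∣ orderOf q := fun q h2 => by
    have := h2.trans (orderOf_dvd_natCard q)
    rw [show Nat.card (G ⧸ Q) = e from hi] at this
    exact (Nat.not_even_iff_odd.2 hodd) (even_iff_two_dvd.2 this)
  choose s hs hsq using fun q : G ⧸ Q => H40.exists_regular_lift P.2 (hqreg q)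
  let L : (G ⧸ Q → ℂ) →ₗ[ℂ] (G → ℂ) :=
    { toFun := fun f g => if 2 ∣ orderOf g then 0 else f (g : G ⧸ Q)
      map_add' := fun f f' => funext fun g => by by_cases h : 2 ∣ orderOf g <;> simp [h]
      map_smul' := fun c f => funext fun g => by by_cases h : 2 ∣ orderOf g <;> simp [h] }
  have hinj : Function.Injective L := by
    intro f f' hff
    funext q
    have := congrFun hff (s q)
    simp only [L, LinearMap.coe_mk, AddHom.coe_mk, if_neg (hs q), hsq] at this
    exact this
  set V := Submodule.span ℂ ((fun χ : IrrCharacter G => pRegularPart 2 (χ : G → ℂ)) ''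
    principalBlock M G) with hV
  suffices h : V = LinearMap.range L by
    show Module.finrank ℂ V = e
    rw [h, LinearMap.finrank_range_of_inj hinj, Module.finrank_pi, ← Nat.card_eq_fintype_card]
    exact hi
  refine le_antisymm ?_ ?_
  · rw [hV, Submodule.span_le]
    rintro _ ⟨χ, -, rfl⟩
    refine ⟨fun q => χ.1 (s q), funext fun g => ?_⟩
    simp only [L, LinearMap.coe_mk, AddHom.coe_mk, pRegularPart, IsPRegular]
    by_cases hg : 2 ∣ orderOf g
    · simp [hg]
    · simp only [hg, if_false, not_false_iff, if_true]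
      exact H26.irr_eq_of_isConj χ (isConj_of_mk_eq he hodd hi (hs _) hg (hsq _))
  · have hcomm : ∀ x y : G ⧸ Q, x * y = y * x := by
      haveI : Fact e.Prime := ⟨he⟩
      haveI : IsCyclic (G ⧸ Q) := isCyclic_of_prime_card (p := e) hi
      exact fun x y => IsCyclic.commGroup.mul_comm x y
    rintro _ ⟨f, rfl⟩
    have hf : IsClassFunction (G ⧸ Q) f := fun x y => by rw [hcomm y x, mul_inv_cancel_right]
    rw [H26.class_function_expansion f hf, map_sum]
    refine Submodule.sum_mem _ fun φ _ => ?_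
    rw [map_smul]
    refine Submodule.smul_mem _ _ (Submodule.subset_span ⟨H44.inflate Q φ, ?_, ?_⟩)
    · intro g
      have hdeg : φ.1 1 ≠ 0 := by
        rw [H42.irr_one_eq]
        exact Nat.cast_ne_zero.2 (H42.charDegree_pos φ).ne'
      rw [centralChar, centralChar, H44.inflate_apply, H44.inflate_apply, QuotientGroup.mk_one,
        div_one, mul_one]
      by_cases hgQ : g ∈ Q
      · rw [(QuotientGroup.eq_one_iff g).2 hgQ, mul_div_assoc, div_self hdeg, mul_one, sub_self]
        exact ⟨0, 1, zero_mem _, (Ideal.ne_top_iff_one M).1 hM.2.1.ne_top, by simp⟩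
      · have h2 : 2 ∣ (Subgroup.centralizer ({g} : Set G)).index := by
          by_contra h2
          apply hgQ
          rw [← hCP]
          refine Subgroup.mem_centralizer_iff.2 fun x hx => ?_
          -- `P` is the unique Sylow subgroup, so it lies in `C(g)`
          obtain ⟨S⟩ := (inferInstance : Nonempty (Sylow 2 (Subgroup.centralizer ({g} : Set G))))
          have hSc : ¬ 2 ∣ ((S : Subgroup _).map (Subgroup.centralizer ({g} : Set G)).subtype).index := by
            rw [Subgroup.index_map_subtype]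
            exact fun h3 => ((Nat.prime_two.dvd_mul).1 h3).elim S.not_dvd_index h2
          let T : Sylow 2 G := (S.2.map _).toSylow hSc
          haveI : Subsingleton (Sylow 2 G) := by
            haveI := Sylow.unique_of_normal P hPn
            infer_instance
          have hx' : x ∈ (T : Subgroup G) := by rw [Subsingleton.elim T P]; exact hx
          exact Subgroup.mem_centralizer_singleton_iff.1 (Subgroup.map_subtype_le _ hx')
        obtain ⟨t, ht⟩ := h2
        rw [ht, show ((2 * t : ℕ) : ℂ) - ((2 * t : ℕ) : ℂ) * φ.1 (g : G ⧸ Q) / φ.1 1 =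
          (((t : ℕ) : ℂ) * (1 - φ.1 (g : G ⧸ Q) / φ.1 1)) * (2 : ℂ) by push_cast; ring]
        refine H40.memLocalIdeal_mul_left (mul_mem (natCast_mem _ t) (sub_mem (one_mem _) ?_))
          ⟨(2 : ℕ), 1, (H40.natCast_mem_iff hM).2 dvd_rfl,
            (Ideal.ne_top_iff_one M).1 hM.2.1.ne_top, by push_cast; simp; rfl⟩
        rw [show φ.1 1 = 1 from H26.irr_one_eq_one_of_comm hcomm φ, div_one]
        exact H40.irr_mem_localRing φ _
    · funext g
      show pRegularPart 2 _ g = L _ g
      simp only [L, LinearMap.coe_mk, AddHom.coe_mk, pRegularPart, IsPRegular]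
      by_cases hg : 2 ∣ orderOf g
      · simp [hg]
      · simp [hg, H44.inflate_apply]

/-- The counts. -/
theorem invariants [Fact (Nat.Prime 2)] (hM : IsPModular 2 M) (hP : IsMulCommutative P)
    (he : e.Prime)
    (hidx : (Subgroup.centralizer ((P : Subgroup G) : Set G)).relIndex
      (Subgroup.normalizer ((P : Subgroup G) : Set G)) = e) :
    blockRank 2 (principalBlock M G) = e ∧
      (¬ Group.IsSolvable G → Nat.card (principalBlock M G) = Nat.card P) := by
  classical
  haveI := hM.2.1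
  haveI := Fintype.ofFinite G
  set K := pPrimeCore 2 G with hK
  haveI : K.Normal := H19.pPrimeCore_normal 2 G
  haveI := Fintype.ofFinite (G ⧸ K)
  have hKc : (Nat.card K).Coprime 2 := H19.pPrimeCore_coprime 2
  have hK2 : ¬ 2 ∣ Nat.card K := (Nat.prime_two.coprime_iff_not_dvd).1 hKc.symm
  set f := QuotientGroup.mk' K
  let Pb := P.mapSurjective (QuotientGroup.mk'_surjective K)
  have hO : pPrimeCore 2 (G ⧸ K) = ⊥ := H19.pPrimeCore_quotient_pPrimeCore 2
  have hPb : IsMulCommutative Pb := ⟨⟨by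
    rintro ⟨_, x, hx, rfl⟩ ⟨_, y, hy, rfl⟩
    exact Subtype.ext ((map_mul f x y).symm.trans
      ((congrArg f (sylow_comm hP hx hy)).trans (map_mul f y x)))⟩⟩
  have hPK : (P : Subgroup G) ⊓ K = ⊥ := by
    obtain ⟨k, hk⟩ := IsPGroup.iff_card.1 P.2
    exact Subgroup.inf_eq_bot_of_coprime (by rw [hk]; exact hKc.symm.pow_left k)
  have hN : (Subgroup.normalizer ((Pb : Subgroup (G ⧸ K)) : Set (G ⧸ K))).comap f =
      Subgroup.normalizer ((P : Subgroup G) : Set G) ⊔ K := H85.comap_normalizer_map_mk P K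
  have hNm : Subgroup.normalizer ((Pb : Subgroup (G ⧸ K)) : Set (G ⧸ K)) =
      (Subgroup.normalizer ((P : Subgroup G) : Set G)).map f := by
    rw [← Subgroup.map_comap_eq_self_of_surjective (QuotientGroup.mk'_surjective K)
      (Subgroup.normalizer ((Pb : Subgroup (G ⧸ K)) : Set (G ⧸ K))), hN, Subgroup.map_sup,
      (Subgroup.map_eq_bot_iff K).2 (QuotientGroup.ker_mk' K).ge, sup_bot_eq]
  have hidx' : (Subgroup.centralizer ((Pb : Subgroup (G ⧸ K)) : Set (G ⧸ K))).relIndex
      (Subgroup.normalizer ((Pb : Subgroup (G ⧸ K)) : Set (G ⧸ K))) = e := by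
    rw [hNm, ← Subgroup.relIndex_comap, ← Subgroup.inf_relIndex_right]
    refine Eq.trans ?_ hidx
    congr 1
    refine le_antisymm ?_ (le_inf ?_ (Subgroup.centralizer_le_normalizer _))
    · rintro g ⟨hg, hgN⟩
      obtain ⟨c, hc, hcg⟩ := H59.centralizer_map_le_map_centralizer hKc P.2 hg
      have hk : c⁻¹ * g ∈ K := QuotientGroup.eq.1 hcg
      have hkN : c⁻¹ * g ∈ Subgroup.normalizer ((P : Subgroup G) : Set G) :=
        (Subgroup.normalizer ((P : Subgroup G) : Set G)).mul_mem
          ((Subgroup.normalizer ((P : Subgroup G) : Set G)).inv_mem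
            (Subgroup.centralizer_le_normalizer _ hc)) hgN
      have hk2 : c⁻¹ * g ∈ Subgroup.centralizer ((P : Subgroup G) : Set G) := by
        refine Subgroup.mem_centralizer_iff.2 fun x hx => ?_
        have h1 : (c⁻¹ * g) * x * (c⁻¹ * g)⁻¹ * x⁻¹ ∈ (P : Subgroup G) ⊓ K := by
          refine ⟨(P : Subgroup G).mul_mem ((Subgroup.mem_normalizer_iff.1 hkN x).1 hx)
            ((P : Subgroup G).inv_mem hx), ?_⟩
          rw [show (c⁻¹ * g) * x * (c⁻¹ * g)⁻¹ * x⁻¹ = (c⁻¹ * g) * (x * (c⁻¹ * g)⁻¹ * x⁻¹) by group]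
          exact K.mul_mem hk ((‹K.Normal›).conj_mem _ (K.inv_mem hk) x)
        rw [hPK, Subgroup.mem_bot, mul_inv_eq_one, mul_inv_eq_iff_eq_mul] at h1
        exact h1.symm
      rw [← mul_inv_cancel_left c g]
      exact mul_mem hc hk2
    · intro g hg
      refine Subgroup.mem_centralizer_iff.2 ?_
      rintro _ ⟨x, hx, rfl⟩
      rw [← map_mul, ← map_mul, Subgroup.mem_centralizer_iff.1 hg x hx]
  have hreg : ∀ g : G, 2 ∣ orderOf g ↔ 2 ∣ orderOf (g : G ⧸ K) := by
    intro g
    refine ⟨fun h => ?_, fun h => h.trans (orderOf_map_dvd f g)⟩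
    by_contra hn
    have h1 : g ^ orderOf (g : G ⧸ K) ∈ K := by
      rw [← QuotientGroup.eq_one_iff, QuotientGroup.mk_pow, pow_orderOf_eq_one]
    have h2 : orderOf g ∣ orderOf (g : G ⧸ K) * Nat.card K := by
      rw [orderOf_dvd_iff_pow_eq_one, pow_mul]
      exact congrArg Subtype.val (pow_card_eq_one' (x := (⟨_, h1⟩ : K)))
    exact ((Nat.prime_two.dvd_mul).1 (h.trans h2)).elim hn hK2
  have hB : principalBlock M G = H44.inflate K '' principalBlock M (G ⧸ K) :=
    Set.ext fun χ => H32.mem_principalBlock_iff_inflate hM K hK2 χ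
  let L : (G ⧸ K → ℂ) →ₗ[ℂ] (G → ℂ) := LinearMap.funLeft ℂ ℂ (fun g : G => (g : G ⧸ K))
  have hL : Function.Injective L :=
    LinearMap.funLeft_injective_of_surjective ℂ ℂ _ (QuotientGroup.mk_surjective)
  have hLreg : ∀ φ : IrrCharacter (G ⧸ K), pRegularPart 2 (H44.inflate K φ : G → ℂ) =
      L (pRegularPart 2 (φ : G ⧸ K → ℂ)) := fun φ => funext fun g => by
    show pRegularPart 2 _ g = pRegularPart 2 (φ : G ⧸ K → ℂ) (g : G ⧸ K)
    by_cases hg : 2 ∣ orderOf g
    · simp [pRegularPart, IsPRegular, hg, (hreg g).1 hg]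
    · simp [pRegularPart, IsPRegular, hg, mt (hreg g).2 hg, H44.inflate_apply]
  have hrank : blockRank 2 (principalBlock M G) = blockRank 2 (principalBlock M (G ⧸ K)) := by
    rw [blockRank, blockRank, hB, Set.image_image, Set.image_congr fun φ _ => hLreg φ,
      ← Set.image_image L, ← Submodule.map_span]
    exact (Submodule.equivMapOfInjective L hL _).finrank_eq.symm
  have hKs : Group.IsSolvable K := S0205.result (Nat.not_even_iff_odd.1 fun h =>
    hK2 (even_iff_two_dvd.1 h))
  by_cases hs : Group.IsSolvable G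
  · refine ⟨?_, fun h => absurd hs h⟩
    haveI := hs
    rw [hrank]
    exact blockRank_solvable hM hO hPb he hidx'
  · have hns : ¬ Group.IsSolvable (G ⧸ K) := fun h => hs (by
      haveI := h
      haveI := hKs
      exact Group.isSolvable_of_ker_le_range K.subtype f
        (by rw [Subgroup.range_subtype]; exact (QuotientGroup.ker_mk' K).le))
    obtain ⟨h1, h2⟩ := counts_nonsolvable hM hO hPb he hidx' hns
    refine ⟨hrank.trans h1, fun _ => ?_⟩
    rw [hB, Nat.card_image_of_injective (H44.inflate_injective K), h2]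
    refine (Nat.card_congr (Equiv.ofBijective
      (fun x : ↥(P : Subgroup G) => (⟨f x, x, x.2, rfl⟩ : ↥(Pb : Subgroup (G ⧸ K))))
      ⟨fun x y h3 => ?_, ?_⟩)).symm
    · have h4 : (x : G)⁻¹ * y ∈ (P : Subgroup G) ⊓ K :=
        ⟨(P : Subgroup G).mul_mem ((P : Subgroup G).inv_mem x.2) y.2,
          QuotientGroup.eq.1 (congrArg Subtype.val h3)⟩
      rw [hPK, Subgroup.mem_bot, inv_mul_eq_one] at h4
      exact Subtype.ext h4
    · rintro ⟨_, x, hx, rfl⟩
      exact ⟨⟨x, hx⟩, rfl⟩

end Cfsg.Agent.H40.AbelTwo
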