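import Cfsg.Agent.H40.AbelTwo.Perfect
import Cfsg.Agent.H40.AbelTwo.Fixed
import Cfsg.Agent.H40.AbelTwo.AutFix
import Cfsg.Agent.H22.AbelianSylow

/-!
# The structure of the non-solvable groups with trivial core
-/

set_option autoImplicit false
set_option linter.unusedSectionVars false
set_option linter.style.haveILetI false

open scoped commutatorElement

namespace Cfsg.Agent.H40.AbelTwo

open Cfsg Cfsg.Agent.H28.Ab

universe u

variable {G : Type u} [Group G] [Finite G]

/-- A commutative Sylow 2-subgroup split as `A × Z`, with `Z` central and the automiser transitive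
on `A`. -/
structure Split (P : Sylow 2 G) (e : ℕ) (A Z : Subgroup G) : Prop where
  comm : IsMulCommutative P
  idx : (Subgroup.centralizer ((P : Subgroup G) : Set G)).relIndex
      (Subgroup.normalizer ((P : Subgroup G) : Set G)) = e
  prime : e.Prime
  leA : A ≤ (P : Subgroup G)
  leZ : Z ≤ (P : Subgroup G)
  central : Z ≤ Subgroup.center G
  inf : A ⊓ Z = ⊥
  sup : A ⊔ Z = (P : Subgroup G)
  exp2 : ∀ a ∈ A, a * a = 1
  card : e + 1 = Nat.card A
  norm : ∀ m ∈ Subgroup.normalizer ((P : Subgroup G) : Set G), ∀ a ∈ A, m * a * m⁻¹ ∈ A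
  trans : ∀ a ∈ A, a ≠ 1 → ∀ b ∈ A, b ≠ 1 →
    ∃ m ∈ Subgroup.normalizer ((P : Subgroup G) : Set G), m * a * m⁻¹ = b

variable {P : Sylow 2 G} {e : ℕ} {A Z : Subgroup G}

theorem Split.exists_ne_one (h : Split P e A Z) : ∃ a ∈ A, a ≠ 1 := by
  by_contra! hall
  have := h.card
  rw [Subgroup.card_eq_one.2 ((Subgroup.eq_bot_iff_forall _).2 hall)] at this
  have := h.prime.two_le
  omega

theorem Split.free (h : Split P e A Z) {a : G} (ha : a ∈ A) (ha1 : a ≠ 1) {m : G}
    (hm : m ∈ Subgroup.normalizer ((P : Subgroup G) : Set G)) (hc : m * a = a * m) :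
    m ∈ Subgroup.centralizer ((P : Subgroup G) : Set G) := by
  haveI : Fact (Nat.Prime 2) := ⟨Nat.prime_two⟩
  by_contra hne
  have hN := dichotomy h.comm h.prime h.idx (S := {a}) (Set.singleton_subset_iff.2 (h.leA ha)) hm
    (Subgroup.mem_centralizer_singleton_iff.2 hc) hne
  have hsub : (A : Set G) ⊆ ({1, a} : Set G) := by
    intro b hb
    by_cases hb1 : b = 1
    · exact Or.inl hb1
    · obtain ⟨n, hn, rfl⟩ := h.trans a ha ha1 b hb hb1
      right
      rw [Set.mem_singleton_iff, Subgroup.mem_centralizer_singleton_iff.1 (hN hn), mul_inv_cancel_right]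
  have h2 := (Set.ncard_le_ncard hsub (Set.toFinite _)).trans (Set.ncard_insert_le _ _)
  rw [Set.ncard_singleton] at h2
  have h3 : (A : Set G).ncard = Nat.card A := (Nat.card_coe_set_eq _).symm
  have := h.card
  have := h.prime.two_le
  omega

theorem Split.exists_mul (h : Split P e A Z) {x : G} (hx : x ∈ (P : Subgroup G)) :
    ∃ a ∈ A, ∃ z ∈ Z, a * z = x := by
  haveI : Z.Normal := ⟨fun a ha g => by
    rwa [Subgroup.mem_center_iff.1 (h.central ha) g, mul_inv_cancel_right]⟩
  rw [← h.sup, Subgroup.mem_sup_of_normal_right] at hx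
  exact hx

theorem Split.mul_inj (h : Split P e A Z) {a b : G} (ha : a ∈ A) (hb : b ∈ A) {z w : G}
    (hz : z ∈ Z) (hw : w ∈ Z) (he : a * z = b * w) : a = b ∧ z = w := by
  have h1 : b⁻¹ * a = w * z⁻¹ := by
    calc b⁻¹ * a = b⁻¹ * (a * z) * z⁻¹ := by group
      _ = w * z⁻¹ := by rw [he]; group
  have h2 : b⁻¹ * a ∈ A ⊓ Z := ⟨A.mul_mem (A.inv_mem hb) ha, h1 ▸ Z.mul_mem hw (Z.inv_mem hz)⟩
  rw [h.inf, Subgroup.mem_bot, inv_mul_eq_one] at h2
  subst h2
  exact ⟨rfl, mul_left_cancel he⟩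

theorem Split.card_mul (h : Split P e A Z) : Nat.card P = Nat.card A * Nat.card Z := by
  rw [← Nat.card_prod]
  refine (Nat.card_congr (Equiv.ofBijective
    (fun v : A × Z => (⟨(v.1 : G) * v.2, mul_mem (h.leA v.1.2) (h.leZ v.2.2)⟩ : ↥(P : Subgroup G)))
    ⟨fun v w e1 => ?_, fun x => ?_⟩)).symm
  · obtain ⟨h1, h2⟩ := h.mul_inj v.1.2 w.1.2 v.2.2 w.2.2 (congrArg Subtype.val e1)
    exact Prod.ext (Subtype.ext h1) (Subtype.ext h2)
  · obtain ⟨a, ha, z, hz, he⟩ := h.exists_mul x.2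
    exact ⟨(⟨a, ha⟩, ⟨z, hz⟩), Subtype.ext he⟩

theorem Split.centralizer_inf (h : Split P e A Z) {a : G} (ha : a ∈ A) (ha1 : a ≠ 1) :
    ∀ n ∈ Subgroup.centralizer ({a} : Set G),
      n ∈ Subgroup.normalizer ((P : Subgroup G) : Set G) →
        n ∈ Subgroup.centralizer ((P : Subgroup G) : Set G) := fun _ hn hnN =>
  h.free ha ha1 hnN (Subgroup.mem_centralizer_singleton_iff.1 hn)

/-- The minimal non-solvable normal subgroup. -/
theorem exists_perfect_normal (hns : ¬ Group.IsSolvable G) :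
    ∃ D : Subgroup G, D.Normal ∧ ¬ Group.IsSolvable D ∧ commutator D = ⊤ := by
  obtain ⟨D, ⟨hn, hD⟩, hmin⟩ := exists_minimal_of_wellFoundedLT
    (fun D : Subgroup G => D.Normal ∧ ¬ Group.IsSolvable D)
    ⟨⊤, inferInstance, fun h => by
      haveI := h
      exact hns (Group.isSolvable_of_surjective
        (f := (Subgroup.topEquiv : (⊤ : Subgroup G) ≃* G).toMonoidHom)
        Subgroup.topEquiv.surjective)⟩
  haveI := hn
  refine ⟨D, hn, hD, ?_⟩
  have hle : ⁅D, D⁆ ≤ D := Subgroup.commutator_le_right D D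
  have hns' : ¬ Group.IsSolvable ↥⁅D, D⁆ := by
    intro h
    apply hD
    haveI := h
    haveI : Group.IsSolvable ↥(commutator D) := by
      refine Group.isSolvable_of_isSolvable_injective (f := ((Subgroup.inclusion
        (le_of_eq (D.map_subtype_commutator))).comp
          (D.subtype.subgroupMap (commutator D)))) ?_
      intro x y hxy
      refine Subtype.ext (D.subtype_injective ?_)
      exact congrArg (fun v : ↥⁅D, D⁆ => (v : G)) hxy
    exact Group.isSolvable_of_ker_le_range (commutator D).subtype (Abelianization.of (G := D))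
      (by rw [Abelianization.ker_of, Subgroup.range_subtype])
  have heq : D ≤ ⁅D, D⁆ := hmin ⟨inferInstance, hns'⟩ hle
  rw [eq_top_iff]
  intro x _
  have h1 : (x : G) ∈ (commutator D).map D.subtype := by
    rw [D.map_subtype_commutator]
    exact heq x.2
  obtain ⟨y, hy, hyx⟩ := h1
  rwa [← D.subtype_injective hyx]

/-- The structure theorem. -/
theorem exists_split [Fact (Nat.Prime 2)] {M : Ideal AlgInt} (hM : IsPModular 2 M)
    (hO : pPrimeCore 2 G = ⊥) (hP : IsMulCommutative P) (he : e.Prime)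
    (hidx : (Subgroup.centralizer ((P : Subgroup G) : Set G)).relIndex
      (Subgroup.normalizer ((P : Subgroup G) : Set G)) = e) (hns : ¬ Group.IsSolvable G) :
    ∃ (D Z : Subgroup G) (_ : D.Normal), IsSimpleGroup D ∧
      Split P e ((P : Subgroup G) ⊓ D) Z ∧ D ⊓ Z = ⊥ ∧
      (8 ≤ e + 1 → D ⊔ Z = ⊤ ∧ ∃ (F : Type) (_ : Field F) (_ : Fintype F), CharP F 2 ∧
        Fintype.card F = e + 1 ∧ Nonempty (D ≃* Matrix.SpecialLinearGroup (Fin 2) F)) := by
  obtain ⟨D, hn, hD, hperf⟩ := exists_perfect_normal hns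
  haveI := hn
  set A := (P : Subgroup G) ⊓ D with hA
  set N := Subgroup.normalizer ((P : Subgroup G) : Set G) with hN
  set C := Subgroup.centralizer ((P : Subgroup G) : Set G) with hC
  set NA := Subgroup.normalizer (A : Set G) with hNA
  set CA := Subgroup.centralizer (A : Set G) with hCA
  have hAP : (A : Set G) ⊆ ((P : Subgroup G) : Set G) := fun x hx => hx.1
  have hNnorm : ∀ m ∈ N, ∀ a ∈ A, m * a * m⁻¹ ∈ A := fun m hm a ha =>
    ⟨(Subgroup.mem_normalizer_iff.1 hm a).1 ha.1, hn.conj_mem a ha.2 m⟩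
  have hNNA : N ≤ NA := fun m hm => Subgroup.mem_normalizer_iff.2 fun a =>
    ⟨fun ha => hNnorm m hm a ha, fun ha => by
      have := hNnorm _ (N.inv_mem hm) _ ha
      simpa [mul_assoc] using this⟩
  -- an element of `D` moving `A`
  obtain ⟨n₀, hn₀D, hn₀A, b₀, hb₀, hn₀b⟩ : ∃ x ∈ D,
      (∀ s ∈ A, x * s * x⁻¹ ∈ (P : Subgroup G)) ∧ ∃ s ∈ A, x * s * x⁻¹ ≠ s := by
    by_contra! hh
    apply hD
    have hle := normal_le_sylow (P := P) hO D fun x hx h1 => hh x hx h1
    haveI : Group.IsSolvable ↥(P : Subgroup G) :=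
      Group.isSolvable_of_comm fun a b => hP.is_comm.comm a b
    exact Group.isSolvable_of_isSolvable_injective (f := Subgroup.inclusion hle)
      (Subgroup.inclusion_injective hle)
  obtain ⟨m₀, hm₀, hm₀A⟩ := exists_fusion hP hAP hn₀A
  have hm₀C : m₀ ∉ C := fun h => hn₀b (by
    rw [← hm₀A b₀ hb₀, ← Subgroup.mem_centralizer_iff.1 h b₀ hb₀.1, mul_inv_cancel_right])
  have hfixA : ∀ m ∈ N, m ∈ CA → m ∈ C := by
    intro m hm hmA
    by_contra hne
    have h1 := dichotomy hP he hidx hAP hm hmA hne hm₀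
    exact hn₀b (by rw [← hm₀A b₀ hb₀, ← Subgroup.mem_centralizer_iff.1 h1 b₀ hb₀,
      mul_inv_cancel_right])
  have hCCA : C ≤ CA := Subgroup.centralizer_le hAP
  have hfus : ∀ x ∈ NA, ∃ m ∈ N, m⁻¹ * x ∈ CA := by
    intro x hx
    obtain ⟨m, hm, hms⟩ := exists_fusion hP hAP (x := x) fun s hs =>
      ((Subgroup.mem_normalizer_iff.1 hx s).1 hs).1
    refine ⟨m, hm, Subgroup.mem_centralizer_iff.2 fun s hs => ?_⟩
    calc s * (m⁻¹ * x) = m⁻¹ * (m * s * m⁻¹) * x := by group
      _ = m⁻¹ * x * s := by rw [hms s hs]; group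
  -- the automiser of `A` in `D`
  obtain ⟨A', hA'⟩ := exists_sylow_inf P D
  have hA'c : IsMulCommutative A' := ⟨⟨fun u v => Subtype.ext (Subtype.ext (sylow_comm hP
    (show ((u : D) : G) ∈ (P : Subgroup G) from Subgroup.mem_subgroupOf.1 (hA'.le u.2))
    (show ((v : D) : G) ∈ (P : Subgroup G) from Subgroup.mem_subgroupOf.1 (hA'.le v.2))))⟩⟩
  have hidxA : CA.relIndex NA = e := by
    haveI : (CA.subgroupOf NA).Normal := by
      rw [hCA, hNA, ← Subgroup.normalizerMonoidHom_ker]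
      infer_instance
    have htop : N.subgroupOf NA ⊔ CA.subgroupOf NA = ⊤ := by
      rw [eq_top_iff]
      intro x _
      obtain ⟨m, hm, hmx⟩ := hfus x x.2
      rw [show x = ⟨m, hNNA hm⟩ * ⟨m⁻¹ * x, NA.mul_mem (NA.inv_mem (hNNA hm)) x.2⟩ from
        Subtype.ext (mul_inv_cancel_left m x).symm]
      exact mul_mem (Subgroup.mem_sup_left hm) (Subgroup.mem_sup_right hmx)
    have h1 := Subgroup.relIndex_sup_right (H := N.subgroupOf NA) (K := CA.subgroupOf NA)
    rw [htop, Subgroup.relIndex_top_right, Subgroup.relIndex_subgroupOf hNNA] at h1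
    rw [← hidx]
    refine h1.trans ?_
    rw [← Subgroup.inf_relIndex_right CA N]
    congr 1
    exact le_antisymm (fun x hx => hfixA x hx.2 hx.1)
      (le_inf hCCA (Subgroup.centralizer_le_normalizer _))
  have hidxD : (Subgroup.centralizer ((A' : Subgroup D) : Set D)).relIndex
      (Subgroup.normalizer ((A' : Subgroup D) : Set D)) = e := by
    rw [hA', normalizer_subgroupOf_inf, centralizer_subgroupOf_inf]
    show (CA.comap D.subtype).relIndex _ = e
    rw [Subgroup.relIndex_comap, Subgroup.subgroupOf_map_subtype]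
    refine (he.eq_one_or_self_of_dvd _ ?_).resolve_left fun h1 => ?_
    · rw [← hidxA, ← Subgroup.relIndex_subgroupOf (inf_le_left : NA ⊓ D ≤ NA)]
      haveI : (CA.subgroupOf NA).Normal := by
        rw [hCA, hNA, ← Subgroup.normalizerMonoidHom_ker]
        infer_instance
      exact Subgroup.relIndex_dvd_index_of_normal _ _
    · refine hn₀b ?_
      have hn₀NA : n₀ ∈ NA := Subgroup.mem_normalizer_iff.2 fun a => by
        constructor
        · exact fun ha => ⟨hn₀A a ha, hn.conj_mem a ha.2 n₀⟩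
        · intro ha
          have := hNnorm _ (N.inv_mem hm₀) _ ha
          obtain ⟨c, hc⟩ : ∃ c ∈ A, c = m₀⁻¹ * (n₀ * a * n₀⁻¹) * m₀⁻¹⁻¹ := ⟨_, this, rfl⟩
          have h2 : n₀ * c * n₀⁻¹ = n₀ * a * n₀⁻¹ := by
            rw [← hm₀A c hc.1, hc.2]; group
          rw [← mul_left_cancel (mul_right_cancel h2)]
          exact hc.1
      rw [← Subgroup.mem_centralizer_iff.1 ((Subgroup.relIndex_eq_one.1 h1) ⟨hn₀NA, hn₀D⟩) b₀ hb₀,
        mul_inv_cancel_right]
  have hOD : pPrimeCore 2 D = ⊥ := H92.EC.pPrimeCore_eq_bot_of_normal hO D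
  haveI hsimple := isSimpleGroup_of_perfect hperf hOD hA'c he hidxD
  have hdata := simple_structure hM hA'c he hidxD
  have hcardA : Nat.card A' = Nat.card A := by
    rw [show Nat.card A' = Nat.card ((A' : Subgroup D).map D.subtype) from
      (Subgroup.card_map_of_injective D.subtype_injective).symm, hA',
      Subgroup.subgroupOf_map_subtype]
  have hmemA : ∀ a (ha : a ∈ A), (⟨a, ha.2⟩ : D) ∈ (A' : Subgroup D) := fun a ha => hA'.ge ha.1
  have hexp : ∀ a ∈ A, a * a = 1 := fun a ha =>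
    congrArg (fun v : ↥(A' : Subgroup D) => ((v : D) : G)) (hdata.exp2 ⟨_, hmemA a ha⟩)
  have hcard : e + 1 = Nat.card A := hdata.card.trans hcardA
  have htrans : ∀ a ∈ A, a ≠ 1 → ∀ b ∈ A, b ≠ 1 → ∃ m ∈ N, m * a * m⁻¹ = b := by
    intro a ha ha1 b hb hb1
    classical
    haveI := Fintype.ofFinite ↥(A' : Subgroup D)
    set y : ↥(A' : Subgroup D) := ⟨_, hmemA a ha⟩
    have hy : y ≠ 1 := fun h => ha1 (congrArg (fun v : ↥(A' : Subgroup D) => ((v : D) : G)) h)
    have hcc := hdata.ctx.card_conj hy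
    rw [Nat.card_eq_fintype_card, Fintype.card_subtype] at hcc
    have hsub : (Finset.univ.filter fun z : ↥(A' : Subgroup D) => IsConj (y : D) (z : D)) =
        Finset.univ.erase 1 := by
      refine Finset.eq_of_subset_of_card_le (fun z hz => ?_) ?_
      · refine Finset.mem_erase.2 ⟨fun h => hy ?_, Finset.mem_univ _⟩
        have h2 := (Finset.mem_filter.1 hz).2
        rw [h, OneMemClass.coe_one, isConj_one_left] at h2
        exact Subtype.ext h2
      · rw [Finset.card_erase_of_mem (Finset.mem_univ _), Finset.card_univ, hcc,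
          ← Nat.card_eq_fintype_card]
        have := hdata.card
        omega
    have hb' : (⟨_, hmemA b hb⟩ : ↥(A' : Subgroup D)) ∈
        Finset.univ.filter fun z : ↥(A' : Subgroup D) => IsConj (y : D) (z : D) := by
      rw [hsub]
      exact Finset.mem_erase.2 ⟨fun h => hb1
        (congrArg (fun v : ↥(A' : Subgroup D) => ((v : D) : G)) h), Finset.mem_univ _⟩
    obtain ⟨c, hc⟩ := isConj_iff.1 (Finset.mem_filter.1 hb').2
    have hc' : (c : G) * a * (c : G)⁻¹ = b := congrArg Subtype.val hc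
    obtain ⟨m, hm, hms⟩ := exists_fusion hP (S := {a}) (Set.singleton_subset_iff.2 ha.1)
      (x := (c : G)) fun s hs => by rw [Set.mem_singleton_iff.1 hs, hc']; exact hb.1
    exact ⟨m, hm, (hms a rfl).trans hc'⟩
  set Z := (P : Subgroup G) ⊓ Subgroup.centralizer (N : Set G) with hZ
  have hZc : Z ≤ Subgroup.center G := fun z hz => mem_center_of_fixed hO hP hz.1 hz.2
  -- the centraliser of `D`
  have hQ : Subgroup.centralizer (D : Set G) ≤ Z := by
    set Q := Subgroup.centralizer (D : Set G)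
    have hQA : ∀ x ∈ Q, ∀ s ∈ A, x * s * x⁻¹ = s := fun x hx s hs => by
      rw [← Subgroup.mem_centralizer_iff.1 hx s hs.2, mul_inv_cancel_right]
    have hQP : Q ≤ (P : Subgroup G) := by
      refine normal_le_sylow hO Q fun x hx hxs => ?_
      obtain ⟨m, hm, hms⟩ := exists_fusion hP
        (S := (((P : Subgroup G) ⊓ Q : Subgroup G) : Set G) ∪ (A : Set G))
        (fun s hs => hs.elim (fun h => h.1) fun h => h.1) (x := x) fun s hs => hs.elim (hxs s)
          fun h => by rw [hQA x hx s h]; exact h.1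
      have hmC := hfixA m hm (Subgroup.mem_centralizer_iff.2 fun s hs =>
        (mul_inv_eq_iff_eq_mul.1 ((hms s (Or.inr hs)).trans (hQA x hx s hs))).symm)
      intro s hs
      rw [← hms s (Or.inl hs), ← Subgroup.mem_centralizer_iff.1 hmC s hs.1, mul_inv_cancel_right]
    have hfixQ : ∀ q ∈ Q, n₀ * q * n₀⁻¹ = q := fun q hq => by
      rw [Subgroup.mem_centralizer_iff.1 hq n₀ hn₀D, mul_inv_cancel_right]
    obtain ⟨m, hm, hms⟩ := exists_fusion hP (S := (Q : Set G) ∪ (A : Set G))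
      (fun s hs => hs.elim (fun h => hQP h) fun h => h.1) (x := n₀) fun s hs => hs.elim
        (fun h => by rw [hfixQ s h]; exact hQP h) fun h => hn₀A s h
    have hmQ : m ∈ Subgroup.centralizer (Q : Set G) := Subgroup.mem_centralizer_iff.2 fun s hs =>
      (mul_inv_eq_iff_eq_mul.1 ((hms s (Or.inl hs)).trans (hfixQ s hs))).symm
    have hmC : m ∉ C := fun h => hn₀b (by
      rw [← hms b₀ (Or.inr hb₀), ← Subgroup.mem_centralizer_iff.1 h b₀ hb₀.1,
        mul_inv_cancel_right])
    have hall := dichotomy hP he hidx (fun q hq => hQP hq) hm hmQ hmC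
    exact fun q hq => ⟨hQP hq, Subgroup.mem_centralizer_iff.2 fun n hn' =>
      (Subgroup.mem_centralizer_iff.1 (hall hn') q hq).symm⟩
  have hDZ : D ⊓ Z = ⊥ := by
    rw [Subgroup.eq_bot_iff_forall]
    intro z hz
    by_contra hz1
    rcases (IsSimpleGroup.eq_bot_or_eq_top_of_normal (Subgroup.center D) inferInstance) with h | h
    · have : (⟨z, hz.1⟩ : D) ∈ Subgroup.center D := Subgroup.mem_center_iff.2 fun g =>
        Subtype.ext (Subgroup.mem_center_iff.1 (hZc hz.2) (g : G))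
      rw [h, Subgroup.mem_bot] at this
      exact hz1 (congrArg Subtype.val this)
    · exact hD (Group.isSolvable_of_comm fun u v =>
        ((Subgroup.mem_center_iff.1 (h ▸ Subgroup.mem_top v)) u))
  -- `G = D C(A)`
  have hNDC : N ≤ D ⊔ CA := by
    have h0 : m₀ ∈ D ⊔ CA := by
      have h1 : n₀⁻¹ * m₀ ∈ CA := Subgroup.mem_centralizer_iff.2 fun s hs => by
        calc s * (n₀⁻¹ * m₀) = n₀⁻¹ * (n₀ * s * n₀⁻¹) * m₀ := by group
          _ = n₀⁻¹ * m₀ * s := by rw [← hm₀A s hs]; group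
      rw [show m₀ = n₀ * (n₀⁻¹ * m₀) from (mul_inv_cancel_left n₀ m₀).symm]
      exact mul_mem (Subgroup.mem_sup_left hn₀D) (Subgroup.mem_sup_right h1)
    set L := (D ⊔ CA) ⊓ N
    have hCL : C ≤ L := le_inf (hCCA.trans le_sup_right) (Subgroup.centralizer_le_normalizer _)
    have hmul := Subgroup.relIndex_mul_relIndex C L N hCL inf_le_right
    rw [show C.relIndex N = e from hidx] at hmul
    rcases he.eq_one_or_self_of_dvd _ (hmul ▸ dvd_mul_right _ _) with h | h
    · exact absurd (Subgroup.relIndex_eq_one.1 h ⟨h0, hm₀⟩) hm₀C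
    · rw [h] at hmul
      exact (Subgroup.relIndex_eq_one.1
        (Nat.eq_of_mul_eq_mul_left he.pos (hmul.trans (mul_one e).symm))).trans inf_le_left
  have htop : D ⊔ CA = ⊤ := by
    rw [eq_top_iff, ← Sylow.normalizer_sup_eq_top A']
    refine sup_le ?_ le_sup_left
    rw [show ((A' : Subgroup D).map D.subtype) = A by rw [hA', Subgroup.subgroupOf_map_subtype]]
    intro x hx
    obtain ⟨m, hm, hmx⟩ := hfus x hx
    rw [show x = m * (m⁻¹ * x) from (mul_inv_cancel_left m x).symm]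
    exact mul_mem (hNDC hm) (Subgroup.mem_sup_right hmx)
  -- the commutators of `P` and `N` lie in `A`
  obtain ⟨-, O, hOC, hOodd, hOcomm⟩ := exists_odd_complement hP CA
    (fun x hx => hCCA (le_centralizer_self hP hx)) fun m hmA hm => hfixA m hm hmA
  have hcomm : ⁅(P : Subgroup G), N⁆ ≤ A := by
    refine Subgroup.commutator_le.2 fun x hx m hm => ?_
    have hP' : ⁅x, m⁆ ∈ (P : Subgroup G) := by
      rw [commutatorElement_def, mul_assoc, mul_assoc]
      exact mul_mem hx (by simpa [mul_assoc] using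
        (Subgroup.mem_normalizer_iff.1 hm x⁻¹).1 (inv_mem hx))
    refine ⟨hP', ?_⟩
    obtain ⟨d, hd, c, hc, rfl⟩ : ∃ d ∈ D, ∃ c ∈ CA, d * c = m :=
      Subgroup.mem_sup_of_normal_left.1 (htop ▸ Subgroup.mem_top m)
    obtain ⟨j, hj⟩ := IsPGroup.iff_orderOf.1 P.2 (⟨_, hP'⟩ : ↥(P : Subgroup G))
    rw [Subgroup.orderOf_mk] at hj
    have ho : (c * x * c⁻¹ * x⁻¹)⁻¹ ∈ O := O.inv_mem (hOcomm c hc x hx)
    have hq : ((⁅x, d * c⁆ : G) : G ⧸ D) = (((c * x * c⁻¹ * x⁻¹)⁻¹ : G) : G ⧸ D) := by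
      have hd' : ((d : G) : G ⧸ D) = 1 := (QuotientGroup.eq_one_iff d).2 hd
      simp [commutatorElement_def, hd', mul_assoc]
    have h1 : orderOf ((⁅x, d * c⁆ : G) : G ⧸ D) = 1 := by
      refine Nat.eq_one_of_dvd_coprimes
        (((Nat.Prime.coprime_iff_not_dvd Nat.prime_two).2 hOodd).pow_left j)
        (hj ▸ orderOf_map_dvd (QuotientGroup.mk' D) _) ?_
      rw [hq]
      refine (orderOf_map_dvd (QuotientGroup.mk' D) _).trans ?_
      rw [← Subgroup.orderOf_mk _ ho]
      exact orderOf_dvd_natCard _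
    rw [orderOf_eq_one_iff, QuotientGroup.eq_one_iff] at h1
    exact h1
  have hsplit : Split P e A Z := by
    refine ⟨hP, hidx, he, inf_le_left, inf_le_left, hZc, ?_, ?_, hexp, hcard, hNnorm, htrans⟩
    · rw [eq_bot_iff, ← hDZ]
      exact inf_le_inf_right _ inf_le_right
    · refine le_antisymm (sup_le inf_le_left inf_le_left) ?_
      calc (P : Subgroup G) = _ := (H22.abelian_sylow_decomposition P hP).2.symm
        _ ≤ A ⊔ Z := sup_le_sup hcomm le_rfl
  refine ⟨D, Z, hn, hsimple, hsplit, hDZ, fun h8 => ?_⟩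
  obtain ⟨hcen, -, hNi, F, fF, ftF, hch, hF, hiso⟩ := hdata.large (hdata.card ▸ h8)
  refine ⟨?_, F, fF, ftF, hch, hF.trans hdata.card.symm, hiso⟩
  rw [eq_top_iff, ← htop]
  refine sup_le le_sup_left fun g hg => ?_
  obtain ⟨a, ha, hφ⟩ := exists_conj_of_fixed hdata.ctx he hdata.card hcen hNi
    (MulAut.conjNormal g : MulAut D) fun a ha => Subtype.ext (by
      rw [MulAut.conjNormal_apply, ← Subgroup.mem_centralizer_iff.1 hg (a : G)
        ⟨Subgroup.mem_subgroupOf.1 (hA'.le ha), a.2⟩, mul_inv_cancel_right])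
  have h1 : (a : G)⁻¹ * g ∈ Subgroup.centralizer (D : Set G) := by
    refine Subgroup.mem_centralizer_iff.2 fun d hd => ?_
    have h2 : g * d * g⁻¹ = (a : G) * d * (a : G)⁻¹ :=
      congrArg (fun ψ : MulAut D => ((ψ ⟨d, hd⟩ : D) : G)) hφ
    calc d * ((a : G)⁻¹ * g) = (a : G)⁻¹ * ((a : G) * d * (a : G)⁻¹) * g := by group
      _ = (a : G)⁻¹ * g * d := by rw [← h2]; group
  rw [show g = (a : G) * ((a : G)⁻¹ * g) from (mul_inv_cancel_left _ g).symm]
  exact mul_mem (Subgroup.mem_sup_left a.2) (Subgroup.mem_sup_right (hQ h1))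

end Cfsg.Agent.H40.AbelTwo
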